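import Cfsg.Agent.Lib.Helper9.TC2Pack

set_option autoImplicit false
set_option maxRecDepth 100000

namespace Cfsg.Agent.Helper9.TCData.L37CX
open Cfsg.Agent.Helper9.TC2
noncomputable def entT_0 : BT := (BT.node 6 (BT.node 2 (BT.leaf 0x6836b05ea529468b283662e52640005ae4ed42c62f0800a2021) (BT.node 4 (BT.leaf 0x6cf6435c6505444b4360e54d48c00038a3092886700c1040062) (BT.leaf 0x8467c50000000000000000003c20000000002018337b20001003ab1e70e3))) (BT.node 8 (BT.leaf 0x88d000703000000000873402b620000002410009b30001406f13ec228124) (BT.node 10 (BT.leaf 0x78374a0000000004c2000ae37312c10000009c21800007724ad2a9165) (BT.leaf 0x8030008cd0000005828b10000003419420000001c09810007f356e32a1a6))))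

noncomputable def cerT_0 : BT := (BT.node 6 (BT.node 2 (BT.leaf 0x201010101631911090019110900020100) (BT.node 4 (BT.leaf 0x202020202630202020002020200020200) (BT.leaf 0x202000000000000020000000229210002000000))) (BT.node 8 (BT.leaf 0x20002000000310263000002006b000200000000) (BT.node 10 (BT.leaf 0x202000000020093390200006b020000000000) (BT.leaf 0x200020000024100000273000002530000000000))))

noncomputable def lkT_0 : BT := (BT.leaf 0xaa3acb960a28a0c8e9926b0bba0905a61bc1c20a40a829e3b82be1c00000)

noncomputable def lcT_0 : BT := (BT.leaf 0x403284561549191032240b0a5c9018021a12e400c910d400a40a080cb045004944340448000)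

noncomputable def pnT_0 : BT := (BT.leaf 0xa383632303a2826242a1816141a0806040200000)

noncomputable def clsT_0 : BT := (BT.leaf 0x0)

noncomputable def repT_0 : BT := (BT.leaf 0x0)

noncomputable def tauT_0 : BT := (BT.node 6 (BT.node 2 (BT.leaf 0x0) (BT.node 4 (BT.leaf 0x0) (BT.leaf 0x0))) (BT.node 8 (BT.leaf 0x0) (BT.node 10 (BT.leaf 0x0) (BT.leaf 0x0))))


end Cfsg.Agent.Helper9.TCData.L37CX
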